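import Cfsg.Agent.H561.RV.AutCrit
import Cfsg.Agent.H269.AO.Main
import Cfsg.Agent.H304.Ela.O8A
import Cfsg.Agent.Schreier.Tools

/-!
# TEAM RV: automorphisms of order prime to six of `PΩ₈⁺(q)`, `q` odd (helper449)

* `AutSix S` : an automorphism of order prime to six centralises a given Sylow `2`-subgroup after multiplication with an
  inner automorphism;
* `autSix_of_index` : criterion;
* `autSix_o8` : `AutSix` for `PΩ₈⁺(q)`, `q` odd.
-/

set_option autoImplicit false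
set_option linter.unusedSectionVars false

namespace Cfsg.Agent.H449.RV

open Cfsg Subgroup
open scoped Pointwise
open Cfsg.Agent.OddOrderLocal.HallPi

/-- **automorphisms of order prime to six centralise a Sylow `2`-subgroup, modulo inner automorphisms** -/
def AutSix (S : Type*) [Group S] : Prop :=
  ∀ P : Sylow 2 S, ∀ φ : MulAut S, ¬ 2 ∣ orderOf φ → ¬ 3 ∣ orderOf φ → ∃ s : S, ∀ x ∈ P, s * φ x * s⁻¹ = x

section

variable {S : Type*} [Group S] [Finite S]

theorem autSix_of_index (hsol : Group.IsSolvable (Out S)) (P₀ : Sylow 2 S) (C : Subgroup (MulAut S))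
    (hC : ∀ φ ∈ C, ∀ x ∈ P₀, φ x = x) (hidx : ∀ r : ℕ, r.Prime → r ∣ (C ⊔ Inn S).index → r = 2 ∨ r = 3) :
    AutSix S := by
  have hfin : Finite (MulAut S) := Finite.of_injective (fun f : MulAut S => (f : S → S)) DFunLike.coe_injective
  intro P φ hφ2 hφ3
  set mk := QuotientGroup.mk' (Inn S) with hmk
  have hmks : Function.Surjective mk := QuotientGroup.mk'_surjective _
  have htop : Group.IsSolvable (⊤ : Subgroup (Out S)) := inferInstance
  have hCs : Group.IsSolvable (C.map mk) := inferInstance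
  obtain ⟨D, hD⟩ := exists_isPiHallOf hCs {r : ℕ | r ≠ 2 ∧ r ≠ 3}
  have hD' : Cfsg.IsPiHallOf {r : ℕ | r ≠ 2 ∧ r ≠ 3} D ⊤ := by
    refine ⟨le_top, hD.2.1, fun p hp hπ hd => ?_⟩
    rw [← relIndex_mul_relIndex D (C.map mk) ⊤ hD.1 le_top] at hd
    rcases (hp.dvd_mul).mp hd with h | h
    · exact hD.2.2 p hp hπ h
    · rw [relIndex_top_right] at h
      have h1 : (C.map mk).index = (C ⊔ Inn S).index := by
        rw [index_map, hmk, QuotientGroup.ker_mk', MonoidHom.range_eq_top.2 (QuotientGroup.mk'_surjective _),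
          index_top, mul_one]
      rw [h1] at h
      exact (hidx p hp h).elim hπ.1 hπ.2
  obtain ⟨m, -, hm⟩ := exists_conj_le_of_isPiHallOf htop hD' (X := zpowers (mk φ)) le_top (by
    intro p hp hd
    rw [Nat.card_zpowers] at hd
    constructor
    · rintro rfl
      exact hφ2 (hd.trans (orderOf_map_dvd mk φ))
    · rintro rfl
      exact hφ3 (hd.trans (orderOf_map_dvd mk φ)))
  obtain ⟨k, rfl⟩ := hmks m
  have h1 : mk k * mk φ * (mk k)⁻¹ ∈ C.map mk := hD.1 (hm ⟨mk φ, mem_zpowers _, rfl⟩)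
  obtain ⟨c, hc, hck⟩ := h1
  -- `φ = k⁻¹ c k * conj t`
  obtain ⟨t, ht⟩ : ∃ t : S, φ = (k⁻¹ * c * k) * MulAut.conj t := by
    have h2 : mk ((k⁻¹ * c * k)⁻¹ * φ) = 1 := by
      rw [map_mul, map_inv, map_mul, map_mul, hck, map_inv]; group
    have h3 : (k⁻¹ * c * k)⁻¹ * φ ∈ Inn S := (QuotientGroup.eq_one_iff _).1 h2
    obtain ⟨t, ht⟩ := h3
    exact ⟨t, by rw [ht]; group⟩
  set ψ : MulAut S := k⁻¹ * c * k with hψ
  -- `ψ` centralises `k⁻¹ • P₀`
  have hψP : ∀ y ∈ (k⁻¹ • P₀ : Sylow 2 S), ψ y = y := by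
    intro y hy
    have hy' : y ∈ k⁻¹ • (P₀ : Subgroup S) := hy
    obtain ⟨z, hz, rfl⟩ := (mem_smul_pointwise_iff_exists _ _ _).1 hy'
    have h4 : k (k⁻¹ • z) = z := MulAut.apply_inv_self S k z
    have h5 : ψ (k⁻¹ • z) = k⁻¹ (c (k (k⁻¹ • z))) := rfl
    rw [h5, h4, hC c hc z hz]
    rfl
  obtain ⟨g, hg⟩ := MulAction.exists_smul_eq S (k⁻¹ • P₀ : Sylow 2 S) P
  refine ⟨g * (ψ (t * g))⁻¹, fun x hx => ?_⟩
  rw [← hg] at hx
  have hx' : x ∈ MulAut.conj g • ((k⁻¹ • P₀ : Sylow 2 S) : Subgroup S) := by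
    rw [← Sylow.coe_subgroup_smul]; exact hx
  obtain ⟨y, hy, rfl⟩ := (mem_smul_pointwise_iff_exists _ _ _).1 hx'
  have h6 : φ (MulAut.conj g • y) = ψ (t * g) * y * (ψ (t * g))⁻¹ := by
    rw [ht]
    have h7 : (ψ * MulAut.conj t) (MulAut.conj g • y) = ψ ((t * g) * y * (t * g)⁻¹) := by
      simp [MulAut.smul_def, mul_assoc]
    rw [h7, map_mul, map_mul, hψP y hy, map_inv]
  rw [h6, MulAut.smul_def, MulAut.conj_apply]
  group

end

/-- a chain `I ≤ D ≤ R`, `D ⊴ R`, `R / D` abelian and a `2`-group modulo `C`, `D / I` a `2`-group -/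
theorem two_of_layers {A : Type*} [Group A] [Finite A] {I D C R : Subgroup A} [I.Normal] (hID : I ≤ D) (hDR : D ≤ R)
    (hCR : C ≤ R) (hRD : ∀ φ ∈ R, ∀ δ ∈ D, φ * δ * φ⁻¹ ∈ D)
    (hAD : ∀ φ ∈ R, ∀ ψ ∈ R, φ * ψ * φ⁻¹ * ψ⁻¹ ∈ D) (hD : ∀ δ ∈ D, ∃ n : ℕ, δ ^ 2 ^ n ∈ I)
    (hA : ∀ φ ∈ R, ∃ n : ℕ, φ ^ 2 ^ n ∈ C ⊔ D) {r : ℕ} (hr : r.Prime) (hd : r ∣ (C ⊔ I).relIndex R) : r = 2 := by
  have hDn : (D.subgroupOf R).Normal := ⟨fun δ hδ φ => hRD φ φ.2 δ hδ⟩
  have hBR : C ⊔ I ≤ R := sup_le hCR (hID.trans hDR)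
  have hCDR : C ⊔ D ≤ R := sup_le hCR hDR
  have h4 : (C ⊔ I).relIndex D * (C ⊔ D).relIndex R = (C ⊔ I).relIndex R := by
    have h1 : ((C ⊔ I).subgroupOf R).relIndex (D.subgroupOf R) *
        ((C ⊔ I).subgroupOf R ⊔ D.subgroupOf R).index = ((C ⊔ I).subgroupOf R).index :=
      Cfsg.Agent.H988.CPi.relIndex_mul_sup_index _ _
    rw [relIndex_subgroupOf hDR, ← subgroupOf_sup hBR hDR, sup_assoc, sup_eq_right.2 hID] at h1
    exact h1
  rw [← h4] at hd
  rcases (hr.dvd_mul).1 hd with h | h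
  · rw [← inf_relIndex_right] at h
    refine Cfsg.Agent.H561.RV.two_of_dvd_relIndex hID (fun d _ => ?_) hD hr
      (h.trans (relIndex_dvd_of_le_left D (le_inf le_sup_right hID)))
    rw [normalizer_eq_top]; trivial
  · refine Cfsg.Agent.H561.RV.two_of_dvd_relIndex hCDR (fun d hd' => ?_) (fun φ hφ => hA φ hφ) hr h
    rw [mem_normalizer_iff]
    have key : ∀ d ∈ R, ∀ x ∈ C ⊔ D, d * x * d⁻¹ ∈ C ⊔ D := by
      intro d hd x hx
      have h5 := hAD d hd x (hCDR hx)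
      have h6 : d * x * d⁻¹ = (d * x * d⁻¹ * x⁻¹) * x := by group
      rw [h6]
      exact mul_mem ((le_sup_right : D ≤ C ⊔ D) h5) hx
    intro x
    constructor
    · exact key d hd' x
    · intro hx
      have := key d⁻¹ (R.inv_mem hd') _ hx
      have h7 : d⁻¹ * (d * x * d⁻¹) * d⁻¹⁻¹ = x := by group
      rwa [h7] at this

/-- `AutSix` is invariant under isomorphisms -/
theorem AutSix.of_equiv {S T : Type*} [Group S] [Group T] (e : S ≃* T) (h : AutSix T) : AutSix S := by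
  intro P φ hφ2 hφ3
  let φ' : MulAut T := (e.symm.trans φ).trans e
  have hpow : ∀ n : ℕ, ∀ x : T, (φ' ^ n) x = e ((φ ^ n) (e.symm x)) := by
    intro n
    induction n with
    | zero => intro x; simp
    | succ n ih =>
      intro x
      rw [pow_succ', MulAut.mul_apply, ih, pow_succ', MulAut.mul_apply]
      show e (φ (e.symm (e _))) = _
      rw [e.symm_apply_apply]
  have hdvd : orderOf φ' ∣ orderOf φ := by
    refine orderOf_dvd_of_pow_eq_one ?_
    ext x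
    rw [hpow, pow_orderOf_eq_one]
    simp
  let P' : Sylow 2 T :=
    { toSubgroup := (P : Subgroup S).map e.toMonoidHom
      isPGroup' := P.isPGroup'.map _
      is_maximal' := by
        intro Q hQ hle
        have h1 : (P : Subgroup S) ≤ Q.comap e.toMonoidHom := fun x hx => hle ⟨x, hx, rfl⟩
        have h2 : IsPGroup 2 (Q.comap e.toMonoidHom) := hQ.comap_of_injective _ e.injective
        have h3 := P.is_maximal' h2 h1
        rw [← h3, map_comap_eq_self_of_surjective e.surjective] }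
  obtain ⟨t, ht⟩ := h P' φ' (fun hd => hφ2 (hd.trans hdvd)) (fun hd => hφ3 (hd.trans hdvd))
  refine ⟨e.symm t, fun x hx => ?_⟩
  have h4 := ht (e x) ⟨x, hx, rfl⟩
  have h5 : φ' (e x) = e (φ x) := by
    show e (φ (e.symm (e x))) = _
    rw [e.symm_apply_apply]
  rw [h5] at h4
  apply e.injective
  rw [map_mul, map_mul, map_inv, e.apply_symm_apply]
  exact h4

open Matrix QuadraticMap Cfsg.Agent.H185.OrthCent Cfsg.Agent.H198.Carriers Cfsg.Agent.H198.OrthFrame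
  Cfsg.Agent.LieClassical.OrthCore Cfsg.Agent.LieClassical.OrthTrans
  Cfsg.Agent.ClassicalGeometry.OrthSemi Cfsg.Agent.H269.AO
open Cfsg.Agent.H198.ClassesPlus (mu mu_spec)

variable {F : Type} [Field F] [Fintype F]

theorem solvable_out_o8 (h2 : ringChar F ≠ 2) : Group.IsSolvable (Out (POmega F (quadFormPlus 4 F))) := by
  obtain ⟨f, hp, hF⟩ := FiniteField.card F (ringChar F)
  have : Fact (ringChar F).Prime := ⟨hp⟩
  have : NeZero (f : ℕ) := ⟨f.ne_zero⟩
  have h := S2608.result (F := F) (p := ringChar F) (f := f) f.pos hF h2 (m := 4) le_rfl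
  rw [if_pos rfl] at h
  obtain ⟨e⟩ := h
  have h4 : Group.IsSolvable (Equiv.Perm (Fin 4)) :=
    Cfsg.Agent.Schreier.Tools.isSolvable_perm_of_card_le_four (Fin 4) (by rw [Nat.card_eq_fintype_card, Fintype.card_fin])
  have h5 : Group.IsSolvable (Equiv.Perm (Fin 4) × Multiplicative (ZMod f)) := inferInstance
  exact Group.isSolvable_of_surjective (f := e.symm.toMonoidHom) e.symm.surjective

set_option maxHeartbeats 2000000 in
/-- the criterion for `PΩ₈⁺` -/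
theorem autSix_of_tri {Q : QuadraticForm F (Fin 4 ⊕ Fin 4 → F)} (hG : Good Q) {hN : H198.Classes.Neutral Q 4}
    {ρ : MulAut (POmega F ⇑Q)} (hρ : H198.TriInn.TriData hG hN ρ) (hfix : ∀ σ : F ≃+* F, Fix σ Q)
    (hsol : Group.IsSolvable (Out (POmega F ⇑Q)))
    (hP : ∃ P0 : Sylow 2 (POmega F ⇑Q), ∀ σ : F ≃+* F, Odd (orderOf σ) →
      ∀ β : POmega F ⇑Q ≃* POmega F ⇑Q, IsFieldAutPOmegaOf ⇑Q σ β → ∀ x ∈ P0, β x = x) :
    AutSix (POmega F ⇑Q) := by
  have hidx := H304.Ela.index_range hρ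
  obtain ⟨P0, hP0⟩ := hP
  have hfinA : Finite (F ≃+* F) := Finite.of_injective (fun f : F ≃+* F => (f : F → F)) DFunLike.coe_injective
  have hfinM : Finite (MulAut (POmega F ⇑Q)) :=
    Finite.of_injective (fun f : MulAut (POmega F ⇑Q) => (f : _ → _)) DFunLike.coe_injective
  have hcyc : IsCyclic (F ≃+* F) := Cfsg.Agent.H477.isCyclic_ringAut F
  have hcomm : ∀ σ τ : F ≃+* F, σ * τ = τ * σ := by
    obtain ⟨γ, hγ⟩ := hcyc.exists_generator
    intro σ τ
    obtain ⟨a, rfl⟩ := hγ σ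
    obtain ⟨b, rfl⟩ := hγ τ
    exact ((Commute.refl γ).zpow_zpow a b).eq
  have hID : Inn (POmega F ⇑Q) ≤ (S hG).range := by
    rw [inn_eq hG, MonoidHom.range_eq_map]
    exact map_mono le_top
  have hDR : (S hG).range ≤ (Phi hG).range := by
    rintro _ ⟨g, rfl⟩
    exact ⟨_, rfl⟩
  have hAD : ∀ φ ∈ (Phi hG).range, ∀ ψ ∈ (Phi hG).range, φ * ψ * φ⁻¹ * ψ⁻¹ ∈ (S hG).range := by
    rintro _ ⟨M, rfl⟩ _ ⟨N, rfl⟩
    obtain ⟨σ, c, hM⟩ := M.2
    obtain ⟨τ, e, hN⟩ := N.2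
    rw [← map_inv, ← map_inv, ← map_mul, ← map_mul, ← map_mul]
    refine mem_range_of_refl hG (((hM.mul hN).mul hM.inv).mul hN.inv) ?_
    ext x
    change σ (τ (σ.symm (τ.symm x))) = x
    have h1 : σ (τ (σ.symm (τ.symm x))) = τ (σ (σ.symm (τ.symm x))) := DFunLike.congr_fun (hcomm σ τ) _
    rw [h1, RingEquiv.apply_symm_apply, RingEquiv.apply_symm_apply]
  have hD : ∀ δ ∈ (S hG).range, ∃ n : ℕ, δ ^ 2 ^ n ∈ Inn (POmega F ⇑Q) := by
    rintro _ ⟨g, rfl⟩
    exact ⟨2, S_pow_four hG (by simp) g⟩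
  -- the semilinear automorphisms centralising `P0`
  let C : Subgroup (MulAut (POmega F ⇑Q)) :=
    { carrier := {φ | (∀ x ∈ P0, φ x = x) ∧ φ ∈ (Phi hG).range}
      one_mem' := ⟨fun x _ => rfl, one_mem _⟩
      mul_mem' := fun {a b} ha hb => ⟨fun x hx => by
        rw [MulAut.mul_apply, hb.1 x hx, ha.1 x hx], mul_mem ha.2 hb.2⟩
      inv_mem' := fun {a} ha => ⟨fun x hx => by
        have h := ha.1 x hx
        nth_rw 1 [← h]
        exact MulAut.inv_apply_self _ a x, inv_mem ha.2⟩ }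
  have hCR : C ≤ (Phi hG).range := fun φ hφ => hφ.2
  have hA : ∀ φ ∈ (Phi hG).range, ∃ n : ℕ, φ ^ 2 ^ n ∈ C ⊔ (S hG).range := by
    rintro _ ⟨M, rfl⟩
    obtain ⟨σ, c, hM⟩ := M.2
    obtain ⟨a, d, hd, ho⟩ := Nat.exists_eq_two_pow_mul_odd (n := orderOf σ) (orderOf_pos σ).ne'
    have hτ : Odd (orderOf (σ ^ 2 ^ a)) := by
      rw [orderOf_pow_of_dvd (pow_ne_zero _ two_ne_zero) (ho ▸ dvd_mul_right _ _), ho,
        Nat.mul_div_cancel_left d (Nat.two_pow_pos a)]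
      exact hd
    refine ⟨a, ?_⟩
    have h1 : Phi hG M ^ 2 ^ a = Phi hG (frobG (hfix (σ ^ 2 ^ a))) * Phi hG ((frobG (hfix (σ ^ 2 ^ a)))⁻¹ * M ^ 2 ^ a) := by
      rw [← map_mul, ← map_pow, mul_inv_cancel_left]
    rw [h1]
    refine mul_mem_sup ?_ ?_
    · exact ⟨fun x hx => hP0 _ hτ _ ((isFieldAut_iff hG (hfix _) _).2 rfl) x hx, ⟨_, rfl⟩⟩
    · obtain ⟨e, h2⟩ := isSS_pow hM (2 ^ a)
      have h3 : IsSS Q (σ ^ 2 ^ a) 1 (frobG (hfix (σ ^ 2 ^ a))).1 := by
        refine ⟨one_ne_zero, fun u v => ?_, fun b v => ?_, fun v => ?_⟩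
        · rw [frobG_apply, frobG_apply, frobG_apply]
          funext i
          exact map_add _ _ _
        · rw [frobG_apply, frobG_apply]
          funext i
          exact map_mul _ _ _
        · rw [frobG_apply, one_mul]
          exact hfix _ v
      refine mem_range_of_refl hG (h3.inv.mul h2) ?_
      ext x
      change (σ ^ 2 ^ a).symm ((σ ^ 2 ^ a) x) = x
      rw [RingEquiv.symm_apply_apply]
  refine autSix_of_index hsol P0 C (fun φ hφ => hφ.1) fun r hr hd => ?_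
  have hle : C ⊔ Inn (POmega F ⇑Q) ≤ (Phi hG).range := sup_le hCR (hID.trans hDR)
  have hd' : r ∣ (C ⊔ Inn (POmega F ⇑Q)).relIndex (Phi hG).range * (Phi hG).range.index := by
    rw [relIndex_mul_index hle]
    exact hd
  rcases (hr.dvd_mul).1 hd' with h | h
  · left
    refine two_of_layers hID hDR hCR ?_ hAD hD hA hr h
    rintro _ ⟨M, rfl⟩ β hβ
    exact conj_mem_range_S hG M hβ
  · right
    rw [hidx] at h
    exact (Nat.prime_dvd_prime_iff_eq hr Nat.prime_three).1 h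

/-- **`AutSix` for `PΩ₈⁺(q)`, `q` odd** -/
theorem autSix_o8 (hodd : Odd (Fintype.card F)) : AutSix (POmega F (quadFormPlus 4 F)) := by
  have h2 : ringChar F ≠ 2 := by
    intro h
    obtain ⟨f, hp, hF⟩ := FiniteField.card F (ringChar F)
    rw [h] at hF
    rw [hF] at hodd
    exact absurd hodd (Nat.not_odd_iff_even.2 ((even_two).pow_of_ne_zero f.ne_zero))
  obtain ⟨ρ, hρ⟩ := H198.TriInn.exists_triality (plusQ_eq 4 F) (good_plusQ (by norm_num)) (neutral_plusQ 4 F)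
  exact autSix_of_tri _ hρ (fun σ => fix_plusQ σ 4) (solvable_out_o8 h2) (exists_sylow_oPlus hodd (by norm_num))

end Cfsg.Agent.H449.RV
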