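import Cfsg.Agent.H165.RV.Aut
import Cfsg.Agent.H556.FHallOmega
import Cfsg.Agent.H959.RV.Two
import Cfsg.Agent.H449.RV.Six

/-!
# TEAM RV: `CRow` for `PΩ₈⁺(q)`, `q` odd (helper449)

* `two_of_oddClosed`, `two_of_surj`, `two_omega` : every Hall `π`-subgroup of an orthogonal simple group, `2 ∈ π`,
  `3, p ∉ π`, has a normal abelian `2`-complement (the proof of helper556's `fhall_omega`, for a given Hall subgroup);
* `cpi_of_two`, `cpi_omega` : hence the group is a `C_π`-group;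
* `crow_o8` : `CRow π S` for `S ≅ PΩ₈⁺(q)`, `2 ∈ π`, `p ∉ π`.
-/

set_option autoImplicit false
set_option linter.unusedSectionVars false

namespace Cfsg.Agent.H449.RV

open Subgroup Cfsg Cfsg.Agent.H988.CPi Cfsg.Agent.Solvable.SZ Cfsg.Agent.H571.DExt Cfsg.Agent.H571.RV
  Cfsg.Agent.H959.RV
open scoped Pointwise

universe u

section

variable {π : Set ℕ} {S : Type*} [Group S] [Finite S]

open Cfsg.Agent.H553.ExtRed in
theorem two_of_oddClosed {H : Subgroup S} (hH : IsPiHall π H)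
    (hcl : OddClosed H) (hab : ∀ x ∈ H, ∀ y ∈ H, Odd (orderOf x) → Odd (orderOf y) → x * y = y * x) :
    ∃ A : Subgroup S, Two π H A := by
  let A : Subgroup S :=
    { carrier := {x | x ∈ H ∧ Odd (orderOf x)}
      one_mem' := ⟨H.one_mem, by rw [orderOf_one]; exact odd_one⟩
      mul_mem' := by
        rintro x y ⟨hx, hx1⟩ ⟨hy, hy1⟩
        refine ⟨H.mul_mem hx hy, ?_⟩
        have h1 := hcl ⟨x, hx⟩ ⟨y, hy⟩ (by rwa [Subgroup.orderOf_mk]) (by rwa [Subgroup.orderOf_mk])
        rw [← Subgroup.orderOf_coe] at h1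
        exact h1
      inv_mem' := by
        rintro x ⟨hx, hx1⟩
        exact ⟨H.inv_mem hx, by rwa [orderOf_inv]⟩ }
  have hAH : A ≤ H := fun x hx => hx.1
  refine ⟨A, hH, hAH, ?_, fun a ha b hb => hab a ha.1 b hb.1 ha.2 hb.2, ?_, ?_⟩
  · intro g hg
    rw [Subgroup.mem_normalizer_iff]
    intro x
    have h1 : orderOf (g * x * g⁻¹) = orderOf x := by
      have := orderOf_injective (MulAut.conj g).toMonoidHom (MulAut.conj g).injective x
      exact this
    constructor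
    · rintro ⟨hx, hx1⟩
      exact ⟨H.mul_mem (H.mul_mem hg hx) (H.inv_mem hg), by rw [h1]; exact hx1⟩
    · rintro ⟨hx, hx1⟩
      refine ⟨?_, by rwa [h1] at hx1⟩
      have := H.mul_mem (H.mul_mem (H.inv_mem hg) hx) hg
      simpa [mul_assoc] using this
  · intro hd
    have : Fact (Nat.Prime 2) := ⟨Nat.prime_two⟩
    obtain ⟨x, hx⟩ := exists_prime_orderOf_dvd_card' (G := A) 2 hd
    have h1 := x.2.2
    rw [Subgroup.orderOf_coe, hx] at h1
    exact absurd h1 (by decide)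
  · intro p hp hd
    -- `H / A` is a 2-group
    have hn : (A.subgroupOf H).Normal := by
      refine ⟨fun x hx g => ?_⟩
      rw [Subgroup.mem_subgroupOf] at hx ⊢
      have h1 : orderOf ((g : S) * x * (g : S)⁻¹) = orderOf (x : S) := by
        have := orderOf_injective (MulAut.conj (g : S)).toMonoidHom (MulAut.conj (g : S)).injective (x : S)
        exact this
      exact ⟨(g * x * g⁻¹ : H).2, by
        show Odd (orderOf ((g : S) * x * (g : S)⁻¹))
        rw [h1]; exact hx.2⟩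
    have hq : p ∣ Nat.card (H ⧸ A.subgroupOf H) := hd
    have : Fact p.Prime := ⟨hp⟩
    obtain ⟨y, hy⟩ := exists_prime_orderOf_dvd_card' (G := H ⧸ A.subgroupOf H) p hq
    obtain ⟨x, rfl⟩ := QuotientGroup.mk_surjective y
    -- the odd part
    obtain ⟨k, m, hm, hkm⟩ := Nat.exists_eq_two_pow_mul_odd (orderOf_pos x).ne'
    have h2 : x ^ 2 ^ k ∈ A.subgroupOf H := by
      rw [Subgroup.mem_subgroupOf]
      refine ⟨(x ^ 2 ^ k).2, ?_⟩
      rw [Subgroup.orderOf_coe]
      exact odd_orderOf_of_pow hm (by rw [← pow_mul, ← hkm, pow_orderOf_eq_one])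
    have h3 : (x : H ⧸ A.subgroupOf H) ^ 2 ^ k = 1 := by
      rw [← QuotientGroup.mk_pow]
      exact (QuotientGroup.eq_one_iff _).mpr h2
    have h4 := orderOf_dvd_of_pow_eq_one h3
    rw [hy] at h4
    exact (Nat.prime_dvd_prime_iff_eq hp Nat.prime_two).mp (hp.dvd_of_dvd_pow h4)

open Cfsg.Agent.H553.ExtRed in
/-- lifting the conditions through a surjective homomorphism with kernel of exponent two -/
theorem two_of_surj {X : Type*} [Group X] [Finite X] (φ : X →* S)
    (hφ : Function.Surjective φ) (hk : ∀ k, φ k = 1 → k * k = 1) {H : Subgroup S} (hH : IsPiHall π H)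
    (hcl : OddClosed (H.comap φ))
    (hab : ∀ x ∈ H.comap φ, ∀ y ∈ H.comap φ, Odd (orderOf x) → Odd (orderOf y) → x * y = y * x) :
    ∃ A : Subgroup S, Two π H A := by
  have key : ∀ x ∈ H, Odd (orderOf x) → ∃ x' ∈ H.comap φ, φ x' = x ∧ Odd (orderOf x') := by
    intro x hxH hx
    obtain ⟨z, rfl⟩ := hφ x
    obtain ⟨k, hk'⟩ := hx
    have hz : φ (z ^ (orderOf (φ z) + 1)) = φ z := by
      rw [map_pow, pow_succ, pow_orderOf_eq_one, one_mul]
    refine ⟨z ^ (orderOf (φ z) + 1), ?_, hz, ?_⟩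
    · show φ _ ∈ H
      rw [hz]; exact hxH
    · refine odd_orderOf_of_pow (n := orderOf (φ z)) ⟨k, hk'⟩ ?_
      have h1 : z ^ orderOf (φ z) * z ^ orderOf (φ z) = 1 := hk _ (by rw [map_pow, pow_orderOf_eq_one])
      have h2 : orderOf (φ z) + 1 = 2 * (k + 1) := by omega
      rw [h2, ← pow_mul, mul_comm (2 * (k + 1)), ← mul_assoc, pow_mul, pow_mul, pow_two, h1, one_pow]
  refine two_of_oddClosed hH ?_ ?_
  · intro x y hx hy
    rw [← Subgroup.orderOf_coe] at hx hy ⊢
    obtain ⟨x', hx'H, hx', hx'o⟩ := key x x.2 hx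
    obtain ⟨y', hy'H, hy', hy'o⟩ := key y y.2 hy
    rw [Subgroup.coe_mul, ← hx', ← hy', ← map_mul]
    refine Odd.of_dvd_nat ?_ (orderOf_map_dvd φ _)
    have h1 := hcl ⟨x', hx'H⟩ ⟨y', hy'H⟩ (by rwa [Subgroup.orderOf_mk]) (by rwa [Subgroup.orderOf_mk])
    rw [← Subgroup.orderOf_coe] at h1
    exact h1
  · intro x hx y hy hxo hyo
    obtain ⟨x', hx'H, rfl, hx'o⟩ := key x hx hxo
    obtain ⟨y', hy'H, rfl, hy'o⟩ := key y hy hyo
    rw [← map_mul, ← map_mul, hab x' hx'H y' hy'H hx'o hy'o]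

/-- **`C_π` if all Hall subgroups have a normal abelian `2`-complement** -/
theorem cpi_of_two
    (hodd : ∀ H K : Subgroup S, IsPiHall (π \ {2}) H → IsPiHall (π \ {2}) K → ∃ g : S, K = MulAut.conj g • H)
    (hE : IsEPiGroup π S) (h : ∀ H : Subgroup S, IsPiHall π H → ∃ A : Subgroup S, Two π H A) : IsCPiGroup π S := by
  refine ⟨hE, fun H K hH hK => ?_⟩
  obtain ⟨A, hα⟩ := h H hH
  obtain ⟨B, hβ⟩ := h K hK
  obtain ⟨g, hg⟩ := hodd _ _ hα.hall_odd hβ.hall_odd
  have hα' := hα.map (MulAut.conj g)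
  rw [conj_eq] at hα'
  have hAe : A.map ((MulAut.conj g : MulAut S) : S ≃* S).toMonoidHom = B := by
    rw [hg]; exact conj_eq _ _
  rw [hAe] at hα'
  obtain ⟨n, -, hn⟩ := conj_of_cpi (hβ.norm_cpi) hα'.norm hβ.norm hα'.hall.1
    (PiN'.of_dvd hα'.hall.2 ⟨_, (relIndex_mul_index hα'.norm).symm⟩) hβ.hall.1
    (PiN'.of_dvd hβ.hall.2 ⟨_, (relIndex_mul_index hβ.norm).symm⟩)
  refine ⟨n * g, ?_⟩
  rw [conj_eq, map_mul, mul_smul]
  exact hn.symm

end

section

open Module QuadraticMap Cfsg.Agent.H167.OP Cfsg.Agent.H170.HL Cfsg.Agent.H170.HL.OmRow Cfsg.Agent.H170.Fl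
open Cfsg.Agent.H553.OddHall Cfsg.Agent.H553.ExtRed Cfsg.Agent.H556.Om

variable {π : Set ℕ}

/-- every Hall subgroup has a normal abelian `2`-complement (`2 ∈ π`, `3, p ∉ π`) -/
theorem two_omega {S : Type*} [Group S] [Finite S]
    (h2π : 2 ∈ π) (h3π : 3 ∉ π) {F : Type} [Field F] [Finite F] {p : ℕ}
    [CharP F p] (hp : p.Prime) (hpπ : p ∉ π) {ι : Type} [Fintype ι]
    [DecidableEq ι] {Q : QuadraticForm F (ι → F)} (hQ : GoodQ Q) {Q' : (ι → F) → F}
    (hQQ : ⇑Q = Q') (e : S ≃* Cfsg.POmega F Q') {H : Subgroup S} (hH : IsPiHall π H) :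
    ∃ A : Subgroup S, Two π H A := by
  subst hQQ
  have hfin : Finite (Cfsg.Omega F (⇑Q)) := inferInstance
  have h2 : (2 : F) ≠ 0 := by
    intro h
    have h1 : ((2 : ℕ) : F) = 0 := by exact_mod_cast h
    rw [CharP.cast_eq_zero_iff F p, Nat.prime_dvd_prime_iff_eq hp Nat.prime_two] at h1
    exact hpπ (h1 ▸ h2π)
  let φ : Cfsg.Omega F (⇑Q) →* S :=
    (e.symm : Cfsg.POmega F (⇑Q) →* S).comp
      (QuotientGroup.mk' (Subgroup.center (Cfsg.Omega F (⇑Q))))
  have hφ : Function.Surjective φ :=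
    e.symm.surjective.comp (QuotientGroup.mk'_surjective _)
  have hφ1 : ∀ k, φ k = 1 → k * k = 1 := by
    intro k h
    have hk : k ∈ Subgroup.center (Cfsg.Omega F (⇑Q)) := by
      rw [← QuotientGroup.eq_one_iff]
      exact e.symm.injective (h.trans (map_one e.symm).symm)
    have h1 := (Cfsg.Agent.LieClassical.OmegaCenter.mem_center_omega_iff Q hQ.nd hQ.card hQ.sing k).mp hk
    apply inc_injective
    rw [map_mul, map_one]
    have h1' : inc (⇑Q) k = 1 ∨ inc (⇑Q) k = -1 := h1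
    rcases h1' with h | h
    · rw [h, one_mul]
    · rw [h, neg_mul_neg, one_mul]
  -- the preimage
  have hK : IsPiHall π (H.comap φ) := by
    constructor
    · intro r hr hd
      have := Fact.mk hr
      obtain ⟨x, hx⟩ := exists_prime_orderOf_dvd_card' (G := H.comap φ) r hd
      by_cases h1 : φ (x : Cfsg.Omega F (⇑Q)) = 1
      · have h3 : x * x = 1 := Subtype.ext (hφ1 _ h1)
        have h4 : r ∣ 2 := by
          rw [← hx]
          exact orderOf_dvd_of_pow_eq_one (by rw [pow_two]; exact h3)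
        rw [(Nat.prime_dvd_prime_iff_eq hr Nat.prime_two).mp h4]
        exact h2π
      · apply hH.1 r hr
        let z : H := ⟨φ x, x.2⟩
        have h3 : z ^ r = 1 := by
          apply Subtype.ext
          show (φ x) ^ r = 1
          rw [← map_pow]
          have : x ^ r = 1 := by rw [← hx, pow_orderOf_eq_one]
          have h4 : (x : Cfsg.Omega F (⇑Q)) ^ r = 1 := congrArg Subtype.val this
          rw [h4, map_one]
        have h4 : orderOf z = r := orderOf_eq_prime h3 fun h => h1 (congrArg Subtype.val h)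
        rw [← h4]
        exact orderOf_dvd_natCard z
    · intro r hr hrπ hd
      rw [index_comap_of_surjective H hφ] at hd
      exact hH.2 r hr hrπ hd
  have hHH : HH Q (H.comap φ) :=
    { gq := hQ
      two := h2
      claim := claimAll F ι Q h2 hQ
      idx := hK.2 2 Nat.prime_two h2π
      three := fun hd => h3π (hK.1 3 Nat.prime_three hd)
      card := by
        intro h0
        rw [CharP.cast_eq_zero_iff F p] at h0
        exact hpπ (hK.1 p hp h0) }
  have hcl : OddClosed (H.comap φ) := by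
    refine Cfsg.Agent.H556.OmClosed.oddClosed_of_cen ?_
    intro r n hr hr2 hd g hg R hR hgR
    have hrπ : r ∈ π := hK.1 r hr hd
    have h5 : 5 ≤ r := by
      by_contra hcon
      push Not at hcon
      have := hr.two_le
      interval_cases r
      · exact hr2 rfl
      · exact h3π hrπ
      · exact absurd hr (by norm_num)
    have h6 := hHH.cen hK h2π h3π hr h5 hrπ (y := (g : Cfsg.Omega F (⇑Q))) g.2 (n := n)
      (by exact_mod_cast congrArg Subtype.val hg) (D := R.map (H.comap φ).subtype) (map_subtype_le _) (hR.map _) (by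
        rintro _ ⟨d, hd, rfl⟩
        exact ⟨g * d * g⁻¹, (mem_normalizer_iff.mp hgR d).mp hd, rfl⟩)
    rw [mem_centralizer_iff]
    intro d hd
    exact Subtype.ext (h6 d ⟨d, hd, rfl⟩).symm
  exact two_of_surj φ hφ hφ1 hH hcl fun x hx y hy hxo hyo =>
    hHH.comm_odd hK h2π h3π hcl hx hy hxo hyo

/-- **orthogonal simple groups, `2 ∈ π`, `3, p ∉ π`: `E_π` implies `C_π`** -/
theorem cpi_omega {S : Type*} [Group S] [Finite S]
    (hodd : ∀ H K : Subgroup S, IsPiHall (π \ {2}) H → IsPiHall (π \ {2}) K → ∃ g : S, K = MulAut.conj g • H)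
    (h2π : 2 ∈ π) (h3π : 3 ∉ π) (hE : IsEPiGroup π S) {F : Type} [Field F] [Finite F] {p : ℕ}
    [CharP F p] (hp : p.Prime) (hpπ : p ∉ π) {ι : Type} [Fintype ι]
    [DecidableEq ι] {Q : QuadraticForm F (ι → F)} (hQ : GoodQ Q) {Q' : (ι → F) → F}
    (hQQ : ⇑Q = Q') (e : S ≃* Cfsg.POmega F Q') : IsCPiGroup π S :=
  cpi_of_two hodd hE fun _ hH => two_omega h2π h3π hp hpπ hQ hQQ e hH

end

/-- **`CRow` for `PΩ₈⁺(q)`, `q` odd** -/
theorem crow_o8 {π : Set ℕ} (h2 : 2 ∈ π) (hOC : Cfsg.Agent.H165.RV.OddConj.{u})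
    (hN : ∀ (S : Type u) [Group S] [Finite S] [IsSimpleGroup S], ¬ IsMulCommutative S → Cfsg.Agent.H165.RV.NRow π S)
    (hB : ∀ (S : Type u) [Group S] [Finite S] [IsSimpleGroup S], ¬ IsMulCommutative S → Cfsg.Agent.H165.RV.BRow π S)
    {S : Type u} [Group S] [Finite S] [IsSimpleGroup S] (hS : ¬ IsMulCommutative S) {F : Type} [Field F] [Fintype F]
    {p : ℕ} [CharP F p] (hp : p.Prime) (hpπ : p ∉ π) (e : S ≃* POmega F (quadFormPlus 4 F)) :
    Cfsg.Agent.H165.RV.CRow π S := by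
  intro H hH φ hφ
  by_cases h3 : 3 ∈ π
  · have hodd : Odd (Fintype.card F) := by
      rw [← Nat.not_even_iff_odd]
      intro hev
      obtain ⟨f, hp', hF⟩ := FiniteField.card F p
      rw [hF] at hev
      have h4 : p = 2 := (Nat.prime_dvd_prime_iff_eq Nat.prime_two hp).1
        (Nat.prime_two.dvd_of_dvd_pow hev.two_dvd) ▸ rfl
      exact hpπ (h4 ▸ h2)
    have hno : ∀ r : ℕ, r.Prime → r ∈ π → ¬ r ∣ orderOf φ := fun r hr hrπ hd => hφ r hr hd hrπ
    have hA : AutSix S := AutSix.of_equiv e (autSix_o8 hodd)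
    refine Cfsg.Agent.H165.RV.fixC_of_autOdd' h2 hN hB hS hH ?_ fun P =>
      hA P φ (hno 2 Nat.prime_two h2) (hno 3 Nat.prime_three h3)
    rw [← Nat.not_even_iff_odd]
    intro hev
    exact hno 2 Nat.prime_two h2 hev.two_dvd
  · have hE : IsEPiGroup π S := ⟨H, hH⟩
    refine Cfsg.Agent.H165.RV.crow_of_cpi (cpi_omega (fun H K hH hK => ?_) h2 h3 hE hp hpπ
      (Cfsg.Agent.H170.HL.OmRow.goodQ_plus (by norm_num)) (Cfsg.Agent.LieClassical.OrthForms.coe_plusForm 4 F) e) H hH φ hφ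
    exact hOC (π \ {2}) (fun h => h.2 rfl) S H K hH hK

end Cfsg.Agent.H449.RV
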