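import Cfsg.Agent.H572.ExcF
import Cfsg.Agent.H169.NoMinE7
import Cfsg.Agent.H565.PairExc
import Cfsg.Agent.H167.EX.Set

/-!
# TEAM RV: `E₇(q)`, `5 ∣ q² + 1`, `7 ∣ q² - 1`: no Hall `{5, 7}`-subgroup (helper449)

* `exists_comm` : if a Hall `{s, t}`-subgroup has both Sylow subgroups normal, each Sylow `s`-subgroup of `G` is
  centralised by a Sylow `t`-subgroup;
* `eq_one_of_comm` : in the full case (`θ = ε`, `s ∣ q - ε`) a `t`-element centralising the Sylow `s`-subgroup in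
  `NG` is trivial if `t` does not divide `q - ε`;
* `no_hall_a`.
-/

set_option autoImplicit false
set_option linter.unusedSectionVars false

namespace Cfsg.Agent.H449.RV.E7a

open CoxeterSystem Cfsg Cfsg.Lie Cfsg.Lie.ChevalleyDatum
open Cfsg.Agent.ChevalleyStructure Cfsg.Agent.ChevalleyStructure.Elts Cfsg.Agent.ChevalleyStructure.CoxeterGeom
  Cfsg.Agent.ChevalleyStructure.CoxeterGeomTypes Cfsg.Agent.ChevalleyStructure.NPerm
open Cfsg.Agent.Tits.Roots Cfsg.Agent.Tits.Core Cfsg.Agent.Nodes Cfsg.Agent.Nodes.Reps Cfsg.Agent.Nodes.BNOf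
  Cfsg.Agent.Nodes.RGDChev Cfsg.Agent.Nodes.Bruhat
open Cfsg.Agent.KFacts.RgdField Cfsg.Agent.KFacts.RgdChevCoord Cfsg.Agent.BpExc.TorCent Cfsg.Agent.BpExc.TorChev
open Cfsg.Agent.GpExc.Field Cfsg.Agent.BpExc.Tow Cfsg.Agent.BpExc.TowChev Cfsg.Agent.BpExc.Fr
  Cfsg.Agent.BpExc.LangFr Cfsg.Agent.H129.TorusChar Cfsg.Agent.H129.TorusMain Cfsg.Agent.H123.ExcZ
open Cfsg.Agent.BpExc Cfsg.Agent.H795.LangT Cfsg.Agent.H795.Core Cfsg.Agent.H795.NotAbT
open Cfsg.Agent.H572.ExcA Cfsg.Agent.H572.ExcB Cfsg.Agent.H572.ExcC Cfsg.Agent.H572.ExcD Cfsg.Agent.H572.LatQ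
  Cfsg.Agent.H572.LatForm Cfsg.Agent.H572.ExcE Cfsg.Agent.H572.ExcF
open Cfsg.Agent.H988.CPi Cfsg.Agent.H553.OddHall Cfsg.Agent.BpExc.RowsUntw
open Subgroup
open scoped Pointwise

universe u v

section Grp

variable {G : Type u} [Group G] [Finite G] {s t : ℕ}

/-- both Sylow subgroups of the Hall subgroup are normal -/
theorem exists_comm [hs : Fact s.Prime] [ht : Fact t.Prime] (hst : s ≠ t) {K : Subgroup G}
    (hK : IsPiHall ({s, t} : Set ℕ) K) (h1 : NS s K) (h2 : NS t K) (S : Sylow s G) :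
    ∃ R : Subgroup G, IsPGroup t R ∧ ¬ t ∣ R.index ∧ ∀ x ∈ R, ∀ y ∈ (S : Subgroup G), x * y = y * x := by
  obtain ⟨A, hA, hAp, hAi⟩ := h1
  obtain ⟨B, hB, hBp, hBi⟩ := h2
  have hdis : Disjoint A B := by
    have h3 := IsPGroup.coprime_card_of_ne s t hst _ _ hAp hBp
    exact Subgroup.disjoint_of_coprime_natCard h3
  have hcom : ∀ x ∈ A, ∀ y ∈ B, x * y = y * x := fun x hx y hy =>
    (Subgroup.commute_of_normal_of_disjoint A B hA hB hdis x y hx hy)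
  -- the images in `G`
  have hAi' : ¬ s ∣ (A.map K.subtype).index := by
    rw [Subgroup.index_map_subtype]
    intro h
    rcases hs.out.dvd_mul.1 h with h | h
    · exact hAi h
    · exact hK.2 s hs.out (Or.inl rfl) h
  have hBi' : ¬ t ∣ (B.map K.subtype).index := by
    rw [Subgroup.index_map_subtype]
    intro h
    rcases ht.out.dvd_mul.1 h with h | h
    · exact hBi h
    · exact hK.2 t ht.out (Or.inr rfl) h
  let T : Sylow s G := (hAp.map K.subtype).toSylow hAi'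
  obtain ⟨g, hg⟩ := MulAction.exists_smul_eq G T S
  have hgS : ∀ y ∈ (S : Subgroup G), g⁻¹ * y * g ∈ A.map K.subtype := by
    intro y hy
    rw [← hg] at hy
    have h3 : y ∈ MulAut.conj g • (A.map K.subtype : Subgroup G) := hy
    rw [Subgroup.mem_pointwise_smul_iff_inv_smul_mem] at h3
    have h4 : (MulAut.conj g)⁻¹ • y = g⁻¹ * y * g := by
      rw [← map_inv, MulAut.smul_def, MulAut.conj_apply, inv_inv]
    rwa [h4] at h3
  refine ⟨(B.map K.subtype).map (MulAut.conj g).toMonoidHom, (hBp.map _).map _, ?_, ?_⟩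
  · rw [show ((B.map K.subtype).map (MulAut.conj g).toMonoidHom).index = (B.map K.subtype).index from
      Subgroup.index_map_equiv _ (MulAut.conj g)]
    exact hBi'
  · rintro _ ⟨_, ⟨b, hb, rfl⟩, rfl⟩ y hy
    obtain ⟨a, ha, hay⟩ := hgS y hy
    have h3 := congrArg K.subtype (hcom a ha b hb)
    rw [map_mul, map_mul, hay] at h3
    show (g * K.subtype b * g⁻¹) * y = y * (g * K.subtype b * g⁻¹)
    have h4 : y = g * (g⁻¹ * y * g) * g⁻¹ := by group
    have h5 : g * K.subtype b * g⁻¹ * (g * (g⁻¹ * y * g) * g⁻¹) = g * (K.subtype b * (g⁻¹ * y * g)) * g⁻¹ := by group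
    have h6 : g * (g⁻¹ * y * g) * g⁻¹ * (g * K.subtype b * g⁻¹) = g * ((g⁻¹ * y * g) * K.subtype b) * g⁻¹ := by group
    rw [h4, h5, h6, h3]

end Grp

section Tor

variable {D : ChevalleyDatum} {l : ℕ} {M : CoxeterMatrix (Fin l)} {hp : IsType D l M}
  {k : Type u} [Field k] [IsAlgClosed k] {hk : LocFin k} {r e : ℕ} [Fact r.Prime] [CharP k r]
  {G : Type v} [Group G] {κ : G →* ↥(D.group k)} {τ : MulAut ↥(D.group k)}
  {θ : (Fin l → ℤ) ≃+ (Fin l → ℤ)} {s : ℕ} {ζ : k} {B : (Fin l → ℤ) → (Fin l → ℤ) → ℤ} {ι : Type*}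
  {ee : ι → (Fin l → ℤ)}

/-- a toral `t`-element fixed by `τ` is trivial -/
theorem eq_one_of_tor (h : Emb hp r e κ τ θ) {ε : ℤ} (hθ : ∀ x, θ x = ε • x) {t : ℕ} (ht : t.Prime)
    (hte : ¬ (t : ℤ) ∣ (r : ℤ) ^ e - ε) {y : G} (hy : y ∈ TG κ) {j : ℕ} (hj : y ^ t ^ j = 1) : y = 1 := by
  apply h.inj
  have hy' : κ y ∈ TT D k := hy
  rw [map_one]
  refine cX_inj hp hy' (one_mem _) fun i => ?_
  rw [cX_one]
  set c := cX hp (κ y) (sr i) with hc
  have hM := isMC_cX hp hy'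
  have hc0 : c ≠ 0 := hM.ne_zero _
  have h1 : c ^ t ^ j = 1 := by rw [hc, ← cX_pow hp hy', ← map_pow, hj, map_one, cX_one]
  have h2 : c ^ ((r : ℤ) ^ e - ε) = 1 := by
    have h3 := cX_sigma hp M.toCoxeterSystem h.frob h.fr hy' (sr i)
    rw [h.fix, hθ, hM.zsmul] at h3
    rw [zpow_sub₀ hc0, div_eq_one_iff_eq (zpow_ne_zero _ hc0), ← Nat.cast_pow, zpow_natCast]
    exact h3.symm
  have h3 : orderOf c ∣ t ^ j := orderOf_dvd_of_pow_eq_one h1
  obtain ⟨i', hi', hi2⟩ := (Nat.dvd_prime_pow ht).1 h3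
  have h4 : (orderOf c : ℤ) ∣ (r : ℤ) ^ e - ε := by
    have hu : (Units.mk0 c hc0) ^ ((r : ℤ) ^ e - ε) = 1 := by
      apply Units.ext
      rw [Units.val_zpow_eq_zpow_val]
      exact h2
    have h5 := orderOf_dvd_iff_zpow_eq_one.2 hu
    have h6 : orderOf (Units.mk0 c hc0) = orderOf c := by
      rw [← orderOf_units]; rfl
    rwa [h6] at h5
  rw [← orderOf_eq_one_iff]
  rw [hi2] at h4 ⊢
  rcases Nat.eq_zero_or_pos i' with rfl | hi0
  · exact pow_zero _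
  · exfalso
    apply hte
    refine dvd_trans ?_ h4
    exact_mod_cast dvd_pow_self t hi0.ne'

/-- **A `t`-element centralising the Sylow `s`-subgroup.** -/
theorem eq_one_of_comm [Finite G] [hs : Fact s.Prime] {N₁ N₂ : ℕ} (h : Emb hp r e κ τ θ)
    (R : Row hp hk κ θ s r ζ B ee N₁ N₂) (S : Sylow s G) (hS : (S : Subgroup G) ≤ NG hp hk r κ) {ε : ℤ}
    (hθ : ∀ x, θ x = ε • x) {t : ℕ} (ht : t.Prime) (hst : s ≠ t) (hte : ¬ (t : ℤ) ∣ (r : ℤ) ^ e - ε) {y : G} {j : ℕ}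
    (hj : y ^ t ^ j = 1) (hy : ∀ x ∈ (S : Subgroup G), y * x = x * y) : y = 1 := by
  refine eq_one_of_tor h hθ ht hte (y := y) ?_ hj
  set Z : Set ↥(D.group k) := {x | ∃ a ∈ TG κ, a ^ s = 1 ∧ κ a = x} with hZ
  obtain ⟨m, hm⟩ := Cfsg.Agent.H167.EX.pow_mem_set hp hk r (S := Z) (fun x hx => by
      obtain ⟨a, ha, -, rfl⟩ := hx
      exact ha) hs.out (fun x hx => by
      obtain ⟨a, ha, has, rfl⟩ := hx
      exact ⟨1, by rw [pow_one, ← map_pow, has, map_one]⟩) (g := κ y) (fun x hx => by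
      obtain ⟨a, ha, has, rfl⟩ := hx
      rw [← map_mul, ← map_mul, hy a (TS_le h.inj S hS ⟨ha, 1, by rw [pow_one]; exact has⟩)])
  have hbot : Cfsg.Agent.H167.EX.SetC.MMs M.toCoxeterSystem hp.isCartan (XX D l k) (ch hp) Z ≤ ⊥ := by
    refine RGD.Sup_le fun a ha => ?_
    exfalso
    obtain ⟨b, hb, hbs, hbx⟩ := R.tst a
    have h1 : ch hp a (κ b) = 1 := ha.2 _ ⟨b, hb, hbs, rfl⟩
    rw [← cX_root hp M.toCoxeterSystem hb ha.1, hbx] at h1
    exact R.reg a ha.1 ((R.prim.zpow_eq_one_iff_dvd _).1 h1)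
  have h2 : κ y ^ s ^ m ∈ TT D k := by
    have h3 := (sup_le_sup_right hbot (TT D k)) hm
    rwa [bot_sup_eq] at h3
  show κ y ∈ TT D k
  have hcop : Nat.Coprime (s ^ m) (t ^ j) := Nat.Coprime.pow _ _ ((Nat.coprime_primes hs.out ht).2 hst)
  have h4 : κ y ^ t ^ j = 1 := by rw [← map_pow, hj, map_one]
  obtain ⟨c, hc⟩ := exists_pow_eq_self_of_coprime (x := κ y) (n := s ^ m)
    (hcop.coprime_dvd_right (orderOf_dvd_of_pow_eq_one h4))
  rw [← hc]
  exact pow_mem h2 c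

end Tor

section Ord

open Cfsg.Agent.H169.ExcOrd

local instance fact7 : Fact (Nat.Prime 7) := ⟨by norm_num⟩
local instance fact5 : Fact (Nat.Prime 5) := ⟨Nat.prime_five⟩

variable {F : Type*} [Field F] [Fintype F] {q a : ℕ}

theorem v7 : padicValNat 7 2 = 0 ∧ padicValNat 7 6 = 0 ∧ padicValNat 7 8 = 0 ∧
    padicValNat 7 10 = 0 ∧ padicValNat 7 12 = 0 ∧ padicValNat 7 14 = 1 ∧
    padicValNat 7 18 = 0 := by
  refine ⟨?_, ?_, ?_, ?_, ?_, ?_, ?_⟩ <;> exact val_eq (by norm_num) (by norm_num)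

theorem E7_seven (hK : Fintype.card F = q) (ha1 : 1 ≤ a) (ha : 7 ^ a ∣ q ^ 2 - 1)
    (ha' : ¬ 7 ^ (a + 1) ∣ q ^ 2 - 1) : ¬ 7 ^ (7 * a + 2) ∣ Nat.card ↥(chevE7.group F) := by
  have hq := two_le_card hK
  obtain ⟨e2, e6, e8, e10, e12, e14, e18⟩ := v7
  obtain ⟨h1, h2⟩ := val_group (s := 7) (n := Nat.card ↥(chevE7.group F)) (N := 63) (c := Nat.gcd 2 (q - 1))
    (L := [2, 6, 8, 10, 12, 14, 18]) hq ha1 ha (by decide) (by rw [Cfsg.Agent.S1064.result hK]; simp [P]; ring)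
  rw [val_even_list (by norm_num) hq ha1 ha ha' (by decide)] at h2
  simp only [List.map_cons, List.map_nil, List.sum_cons, List.sum_nil, e2, e6, e8, e10, e12, e14, e18] at h2
  exact not_dvd_of_val h1 (by omega)

theorem five_dvd (h5 : 5 ∣ Fintype.card F ^ 2 + 1) : 5 ∣ Nat.card ↥(chevE7.group F) := by
  have h1 := Cfsg.Agent.S1064.result (F := F) rfl
  have h2 : 5 ∣ Fintype.card F ^ 8 - 1 := by
    have hq : 1 ≤ Fintype.card F := Fintype.card_pos
    obtain ⟨n, hn⟩ := Nat.exists_eq_add_of_le hq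
    have h3 : Fintype.card F ^ 8 - 1 = (Fintype.card F ^ 2 + 1) * ((Fintype.card F ^ 4 + 1) * (Fintype.card F ^ 2 - 1)) := by
      zify [Nat.one_le_pow 8 _ hq, Nat.one_le_pow 2 _ hq]
      ring
    rw [h3]
    exact h5.mul_right _
  have h3 : 5 ∣ Nat.gcd 2 (Fintype.card F - 1) * Nat.card ↥(chevE7.group F) := by
    rw [h1]
    exact ((((h2.mul_left _).mul_right _).mul_right _).mul_right _).mul_right _
  rcases Nat.prime_five.dvd_mul.1 h3 with h4 | h4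
  · exact absurd (Nat.le_of_dvd (by norm_num) (h4.trans (Nat.gcd_dvd_left _ _))) (by norm_num)
  · exact h4

end Ord

/-- **`E₇(q)`, `5 ∣ q² + 1`, `7 ∣ q² - 1`: no Hall `{5, 7}`-subgroup.** -/
theorem no_hall_a (F : Type u) [Field F] [Fintype F] (h5 : 5 ∣ Fintype.card F ^ 2 + 1)
    (h7 : 7 ∣ Fintype.card F ^ 2 - 1) (K : Subgroup ↥(chevE7.group F)) (hK : IsPiHall ({5, 7} : Set ℕ) K) : False := by
  have hf5 : Fact (Nat.Prime 5) := ⟨Nat.prime_five⟩
  have hf7 : Fact (Nat.Prime 7) := ⟨by norm_num⟩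
  have hGf : Finite ↥(chevE7.group F) := inferInstance
  have hWf : Finite CoxeterMatrix.E₇.Group := finite_W e7T CoxeterMatrix.E₇.toCoxeterSystem
  have hq1 : 2 ≤ Fintype.card F := Fintype.one_lt_card
  have hq2 : 1 ≤ Fintype.card F ^ 2 := Nat.one_le_pow _ _ (by omega)
  -- the characteristic
  have hdvd : ∀ n : ℕ, n.Prime → (n : F) = 0 → n ∣ Fintype.card F ^ 2 := by
    intro n hn h0
    obtain ⟨p, hp⟩ := CharP.exists F
    have hpn : p ∣ n := (CharP.cast_eq_zero_iff F p n).1 h0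
    have hpp := CharP.char_is_prime F p
    have h1 : p = n := (Nat.prime_dvd_prime_iff_eq hpp hn).1 hpn
    subst h1
    obtain ⟨m, -, hm⟩ := FiniteField.card F p
    rw [hm]
    exact dvd_pow (dvd_pow_self p m.ne_zero) two_ne_zero
  have h5F : ((5 : ℕ) : F) ≠ 0 := fun h0 => by
    have h1 := hdvd 5 Nat.prime_five h0
    omega
  have h7F : ((7 : ℕ) : F) ≠ 0 := fun h0 => by
    have h1 := hdvd 7 (by norm_num) h0
    omega
  have h5' : ¬ 5 ∣ Fintype.card F ^ 2 - 1 := fun h1 => by omega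
  -- the pairs
  have hP75 : PairN 7 5 ↥(chevE7.group F) := by
    refine Cfsg.Agent.H565.NM.pairN_of_noMin (by norm_num) (by norm_num) (by norm_num) (by norm_num) (by norm_num) ?_
    refine Cfsg.Agent.H169.NoMinE7.noMin_e7_five_seven F h5F ?_
    rw [Nat.card_eq_fintype_card]
    exact h5'
  have h7c : (7 : ℤ) ∣ (Fintype.card F : ℤ) - 1 ∨ (7 : ℤ) ∣ (Fintype.card F : ℤ) - (-1 : ℤ) := by
    have h1 : (7 : ℤ) ∣ ((Fintype.card F : ℤ) - 1) * ((Fintype.card F : ℤ) - (-1 : ℤ)) := by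
      have h2 : ((7 : ℕ) : ℤ) ∣ ((Fintype.card F ^ 2 - 1 : ℕ) : ℤ) := by exact_mod_cast h7
      rw [Nat.cast_sub hq2] at h2
      push_cast at h2
      have h3 : ((Fintype.card F : ℤ) - 1) * ((Fintype.card F : ℤ) - (-1 : ℤ)) = (Fintype.card F : ℤ) ^ 2 - 1 := by ring
      rw [h3]
      exact h2
    exact (Int.prime_iff_natAbs_prime.2 (by norm_num)).dvd_or_dvd h1
  obtain ⟨ε, hε, hq⟩ := exists_eps (s := 7) _ h7c
  obtain ⟨w, hw⟩ := exists_w e7T negE7 hε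
  have hN2 : 7 ^ 1 ∣ Nat.card CoxeterMatrix.E₇.Group := by rw [card_E7]; norm_num
  have hord : ∀ a, 0 < a → 7 ^ a ∣ Fintype.card F ^ 2 - 1 → ¬ 7 ^ (a + 1) ∣ Fintype.card F ^ 2 - 1 →
      ¬ 7 ^ (a * 7 + 1 + 1) ∣ Nat.card ↥(chevE7.group F) := by
    intro a ha h1 h2
    have h4 : a * 7 + 1 + 1 = 7 * a + 2 := by omega
    rw [h4]
    exact E7_seven (F := F) rfl ha h1 h2
  have hP57 : PairN 5 7 ↥(chevE7.group F) := by
    refine five_untw e7T datE7 (s := 7) (by norm_num) h7F hε w hw hq (N₂ := 1) (by decide +kernel) hN2 hord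
      (t := 5) (by norm_num) (by norm_num) ?_
    intro H hH h4 h
    exact Cfsg.Agent.H566.WeylST.wl_E7_57 H (fun q hq hd => (hH q hq hd).symm) h ‹_›
  -- the set up
  obtain ⟨r, e, hr, hrF, hrk, he, hqF, hk⟩ := Cfsg.Agent.H129.TorusUntw.exists_closure (F := F) rfl
  have hsr : 7 ≠ r := by
    rintro rfl
    exact h7F (CharP.cast_eq_zero F 7)
  have hset := setup_untw' e7T datE7 hk he hqF
  obtain ⟨κ, τ, z, hEm, hκ, hb⟩ := exists_emb (hp := e7T) hk hset.1 he hset.2.1 hset.2.2.1 hset.2.2.2.1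
    hset.2.2.2.2.1 w
  have hθ : ∀ x, ((AddEquiv.refl (Fin 7 → ℤ)).trans (repAut CoxeterMatrix.E₇.toCoxeterSystem e7T.isCartan w)) x =
      ε • x := hw
  have hcm' := fun a b => comm_of_comm (κ := κ) (τ := τ) hκ hb hset.2.2.2.2.2 a b
  obtain ⟨a, ha, ha1, ha2⟩ := exists_exp (by norm_num : Nat.Prime 7) (Fintype.one_lt_card (α := F)) hε hq
  have hqa : ((7 ^ a : ℕ) : ℤ) ∣ (r : ℤ) ^ e - ε := by
    have h1 := dvd_of_sq (by norm_num : Nat.Prime 7) (by norm_num) (Fintype.card_pos) hε hq ha1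
    rw [hqF] at h1
    push_cast at h1 ⊢
    exact h1
  obtain ⟨ζ, R⟩ := row_full (hp := e7T) (hk := hk) (s := 7) (by norm_num) hsr hEm datE7.hB datE7.hd0 hθ hcm' ha hqa
    (c₀ := 0) (N₂ := 1) (by
      rw [card_KA datE7.hB (Nat.Coprime.pow_right a
        ((Nat.Prime.coprime_iff_not_dvd (by norm_num : Nat.Prime 7)).2 (by decide +kernel)).symm)]
      exact one_dvd _) hN2 (by rw [Nat.sub_zero]; exact hord a ha ha1 ha2) datE7.S datE7.norm datE7.hspan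
    (datE7.hds (by norm_num) (by norm_num))
  obtain ⟨S, hS, -⟩ := exists_sylow (hp := e7T) (hk := hk) (r := r) κ R.tg R.wg R.ord
  have hK' : IsPiHall ({7, 5} : Set ℕ) K := by rwa [Set.pair_comm]
  obtain ⟨Q, hQ, hQi, hQS⟩ := exists_comm (s := 7) (t := 5) (by norm_num) hK' (hP75 K hK) (hP57 K hK') S
  have hte : ¬ ((5 : ℕ) : ℤ) ∣ (r : ℤ) ^ e - ε := by
    intro h1
    have h2 : ((r : ℤ) ^ e) = (Fintype.card F : ℤ) := by rw [hqF]; push_cast; rfl
    rw [h2] at h1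
    apply h5'
    have h3 : ((5 : ℕ) : ℤ) ∣ ((Fintype.card F ^ 2 - 1 : ℕ) : ℤ) := by
      rw [Nat.cast_sub hq2]
      have h4 : ((Fintype.card F ^ 2 : ℕ) : ℤ) - ((1 : ℕ) : ℤ) = ((Fintype.card F : ℤ) - ε) * ((Fintype.card F : ℤ) + ε) := by
        push_cast
        rcases hε with h | h <;> rw [h] <;> ring
      rw [h4]
      exact h1.mul_right _
    exact_mod_cast h3
  have hbot : Q = ⊥ := by
    rw [Subgroup.eq_bot_iff_forall]
    intro y hy
    obtain ⟨j, hj⟩ := hQ ⟨y, hy⟩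
    exact eq_one_of_comm hEm R S hS hθ Nat.prime_five (by norm_num) hte (j := j) (congrArg Subtype.val hj)
      (fun x hx => hQS y hy x hx)
  rw [hbot, Subgroup.index_bot] at hQi
  exact hQi (five_dvd h5)

end Cfsg.Agent.H449.RV.E7a
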